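import Mathlib

/-!
# An acyclic complex with degreewise split surjection onto a given one
-/

universe v u

open CategoryTheory CategoryTheory.Limits ZeroObject

namespace Groth.Agent.H6HomAlg

variable {C : Type u} [Category.{v} C] [Abelian C] (I : CochainComplex C ℕ)

/-- The previous term. -/
noncomputable def prevX : ℕ → C
  | 0 => 0
  | p + 1 => I.X p

/-- The differential into a term from the previous one. -/
noncomputable def prevD : ∀ p, prevX I p ⟶ I.X p
  | 0 => 0
  | p + 1 => I.d p (p + 1)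

/-- A term as the previous term of the next. -/
noncomputable def toNext (p : ℕ) : I.X p ≅ prevX I (p + 1) := Iso.refl _

@[reassoc (attr := simp)]
theorem toNext_prevD (p : ℕ) : (toNext I p).hom ≫ prevD I (p + 1) = I.d p (p + 1) := Category.id_comp _

@[reassoc (attr := simp)]
theorem prevD_d : ∀ p, prevD I p ≫ I.d p (p + 1) = 0
  | 0 => zero_comp
  | p + 1 => I.d_comp_d _ _ _

/-- The contractible complex `Iᵖ⁻¹ ⊞ Iᵖ`. -/
noncomputable def lifts : CochainComplex C ℕ :=
  CochainComplex.of (fun p => prevX I p ⊞ I.X p) (fun p => biprod.snd ≫ (toNext I p).hom ≫ biprod.inl)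
    (fun p => by simp)

theorem lifts_d (p : ℕ) : (lifts I).d p (p + 1) =
    (biprod.snd : prevX I p ⊞ I.X p ⟶ I.X p) ≫ (toNext I p).hom ≫ biprod.inl := by
  simp [lifts]

/-- The projection to `I`. -/
noncomputable def liftsHom : lifts I ⟶ I :=
  CochainComplex.ofHom (fun p => (biprod.desc (prevD I p) (𝟙 _) : prevX I p ⊞ I.X p ⟶ I.X p)) fun p => by
    rw [lifts_d]
    change biprod.desc (prevD I p) (𝟙 _) ≫ I.d p (p + 1) =
      (biprod.snd ≫ (toNext I p).hom ≫ biprod.inl) ≫ biprod.desc (prevD I (p + 1)) (𝟙 _)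
    simp only [Category.assoc, biprod.inl_desc, toNext_prevD]
    refine biprod.hom_ext' _ _ ?_ ?_
    · simp
    · simp

theorem liftsHom_f (p : ℕ) : (liftsHom I).f p = (biprod.desc (prevD I p) (𝟙 _) : prevX I p ⊞ I.X p ⟶ I.X p) := by
  simp [liftsHom]

instance [∀ p, Injective (I.X p)] : ∀ p, Injective ((lifts I).X p)
  | 0 => by
    haveI : Injective (prevX I 0) := (isZero_zero C).injective
    exact inferInstanceAs (Injective (prevX I 0 ⊞ I.X 0))
  | p + 1 => inferInstanceAs (Injective (I.X p ⊞ I.X (p + 1)))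

theorem exactAt_lifts (p : ℕ) : (lifts I).ExactAt p := by
  rcases p with - | p
  · rw [(lifts I).exactAt_iff' 0 0 1 (by simp) (by simp)]
    refine (ShortComplex.exact_iff_exact_up_to_refinements _).2 fun T x hx => ?_
    refine ⟨T, 𝟙 T, inferInstance, 0, ?_⟩
    change T ⟶ prevX I 0 ⊞ I.X 0 at x
    have h : x ≫ (lifts I).d 0 (0 + 1) = 0 := hx
    rw [lifts_d] at h
    change x ≫ biprod.snd ≫ (toNext I _).hom ≫ biprod.inl = 0 at h
    have hx' : x = 0 := by
      apply biprod.hom_ext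
      · exact (isZero_zero C).eq_of_tgt _ _
      · rw [zero_comp, ← cancel_mono ((toNext I 0).hom ≫ (biprod.inl : _ ⟶ prevX I (0 + 1) ⊞ I.X (0 + 1))), zero_comp, Category.assoc]
        exact h
    subst hx'
    rw [zero_comp]
    exact comp_zero
  · rw [(lifts I).exactAt_iff' p (p + 1) (p + 1 + 1) (by simp) (by simp)]
    refine (ShortComplex.exact_iff_exact_up_to_refinements _).2 fun T x hx => ?_
    change T ⟶ I.X p ⊞ I.X (p + 1) at x
    have h : x ≫ (lifts I).d (p + 1) (p + 1 + 1) = 0 := hx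
    rw [lifts_d] at h
    change x ≫ biprod.snd ≫ (toNext I _).hom ≫ biprod.inl = 0 at h
    have hx' : x ≫ biprod.snd = 0 := by
      rw [← cancel_mono ((toNext I (p + 1)).hom ≫ (biprod.inl : _ ⟶ prevX I (p + 1 + 1) ⊞ I.X (p + 1 + 1))), zero_comp, Category.assoc]
      exact h
    refine ⟨T, 𝟙 T, inferInstance, (biprod.lift 0 (x ≫ biprod.fst) : T ⟶ prevX I p ⊞ I.X p), ?_⟩
    change 𝟙 T ≫ x = biprod.lift 0 (x ≫ biprod.fst) ≫ (lifts I).d p (p + 1)
    rw [lifts_d]
    change 𝟙 T ≫ x = biprod.lift 0 (x ≫ biprod.fst) ≫ biprod.snd ≫ (𝟙 (I.X p) : _ ⟶ I.X p) ≫ (biprod.inl : I.X p ⟶ I.X p ⊞ I.X (p + 1))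
    apply biprod.hom_ext
    · simp
    · simp [hx']

theorem quasiIso_inl (J : CochainComplex C ℕ) : QuasiIso (biprod.inl : J ⟶ J ⊞ lifts I) where
  quasiIsoAt i := by
    rw [quasiIsoAt_iff_isIso_homologyMap]
    refine ⟨HomologicalComplex.homologyMap biprod.fst i, ?_, ?_⟩
    · rw [← HomologicalComplex.homologyMap_comp, biprod.inl_fst, HomologicalComplex.homologyMap_id]
    · rw [← HomologicalComplex.homologyMap_comp]
      have h0 : HomologicalComplex.homologyMap (biprod.snd ≫ biprod.inr : J ⊞ lifts I ⟶ J ⊞ lifts I) i = 0 := by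
        rw [HomologicalComplex.homologyMap_comp]
        rw [((exactAt_lifts I i).isZero_homology).eq_zero_of_tgt (HomologicalComplex.homologyMap biprod.snd i), zero_comp]
      conv_rhs => rw [← HomologicalComplex.homologyMap_id, ← biprod.total]
      rw [HomologicalComplex.homologyMap_add, h0, add_zero]

/-- The shear `A ⊞ (P ⊞ Q) ≅ Q ⊞ (A ⊞ P)` of two maps to `Q`. -/
noncomputable def shear {A P Q : C} (b : A ⟶ Q) (d : P ⟶ Q) : A ⊞ (P ⊞ Q) ≅ Q ⊞ (A ⊞ P) where
  hom := biprod.lift (biprod.desc b (biprod.desc d (𝟙 Q))) (biprod.lift biprod.fst (biprod.snd ≫ biprod.fst))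
  inv := biprod.desc (biprod.inr ≫ biprod.inr)
    (biprod.desc (biprod.inl - b ≫ biprod.inr ≫ biprod.inr) (biprod.inl ≫ biprod.inr - d ≫ biprod.inr ≫ biprod.inr))
  hom_inv_id := by ext <;> simp
  inv_hom_id := by ext <;> simp

theorem shear_inl {A P Q : C} (b : A ⟶ Q) (d : P ⟶ Q) :
    biprod.inl ≫ (shear b d).hom ≫ biprod.fst = b := by simp [shear]

theorem shear_inr {A P Q : C} (b : A ⟶ Q) (d : P ⟶ Q) :
    biprod.inr ≫ (shear b d).hom ≫ biprod.fst = biprod.desc d (𝟙 Q) := by simp [shear]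

theorem exists_resolution_split [EnoughInjectives C] {G F : C} (α : G ⟶ F) (I : InjectiveResolution F) :
    ∃ (J : InjectiveResolution G) (β : J.cocomplex ⟶ I.cocomplex),
      J.ι ≫ β = (CochainComplex.single₀ C).map α ≫ I.ι ∧
      ∀ p : ℕ, ∃ (K : C) (e : J.cocomplex.X p ≅ I.cocomplex.X p ⊞ K), β.f p = e.hom ≫ biprod.fst := by
  let J₀ := InjectiveResolution.of G
  let β₀ : J₀.cocomplex ⟶ I.cocomplex := InjectiveResolution.desc α I J₀
  let D := lifts I.cocomplex
  haveI : ∀ n, Injective ((J₀.cocomplex ⊞ D).X n) := fun n =>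
    Injective.of_iso (HomologicalComplex.biprodXIso _ _ n).symm inferInstance
  haveI := quasiIso_inl I.cocomplex J₀.cocomplex
  let J : InjectiveResolution G :=
    { cocomplex := J₀.cocomplex ⊞ D
      ι := J₀.ι ≫ biprod.inl
      quasiIso := inferInstance }
  refine ⟨J, biprod.desc β₀ (liftsHom _), ?_, fun p => ?_⟩
  · change (J₀.ι ≫ biprod.inl) ≫ biprod.desc β₀ (liftsHom _) = _
    rw [Category.assoc, biprod.inl_desc, InjectiveResolution.desc_commutes]
  · refine ⟨J₀.cocomplex.X p ⊞ prevX I.cocomplex p,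
      HomologicalComplex.biprodXIso _ _ p ≪≫ shear (β₀.f p) (prevD I.cocomplex p), ?_⟩
    have hl : (biprod.inl : J₀.cocomplex ⟶ J₀.cocomplex ⊞ D).f p ≫ (HomologicalComplex.biprodXIso J₀.cocomplex D p).hom =
        biprod.inl := by rw [← HomologicalComplex.inl_biprodXIso_inv, Category.assoc, Iso.inv_hom_id, Category.comp_id]
    have hr : (biprod.inr : D ⟶ J₀.cocomplex ⊞ D).f p ≫ (HomologicalComplex.biprodXIso J₀.cocomplex D p).hom =
        biprod.inr := by rw [← HomologicalComplex.inr_biprodXIso_inv, Category.assoc, Iso.inv_hom_id, Category.comp_id]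
    apply HomologicalComplex.biprodX_ext_from
    · rw [HomologicalComplex.biprod_inl_desc_f, Iso.trans_hom, Category.assoc]
      erw [reassoc_of% hl]
      exact (shear_inl _ _).symm
    · rw [HomologicalComplex.biprod_inr_desc_f, Iso.trans_hom, Category.assoc]
      erw [reassoc_of% hr]
      exact (liftsHom_f _ p).trans (shear_inr (β₀.f p) (prevD I.cocomplex p)).symm

end Groth.Agent.H6HomAlg
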