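import Mathlib

/-!
# The total complex of a quasi-isomorphism of bounded below double complexes
-/

universe v u

open CategoryTheory CategoryTheory.Limits

namespace Groth.Agent.H6HomAlg.TotalQis

variable {A : Type u} [Category.{v} A] [Abelian A]

local notation "cU" => ComplexShape.up ℤ

variable (K : HomologicalComplex₂ A cU cU) [K.HasTotal cU]

theorem π_def (p q : ℤ) : ComplexShape.π cU cU cU (p, q) = p + q := rfl

theorem ε₁_def (p q : ℤ) : ComplexShape.ε₁ cU cU cU (p, q) = 1 := rfl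

/-- The projection to a component. -/
noncomputable def proj (p q n : ℤ) : (K.total cU).X n ⟶ (K.X p).X q :=
  K.totalDesc fun p' q' _ =>
    if h : p' = p ∧ q' = q then (K.XXIsoOfEq _ _ _ h.1 h.2).hom else 0

theorem ι_proj (p q n : ℤ) (h : p + q = n) : K.ιTotal cU p q n h ≫ proj K p q n = 𝟙 _ := by
  simp [proj]

theorem ι_proj_ne (p' q' p q n : ℤ) (h : p' + q' = n) (hne : q' ≠ q) :
    K.ιTotal cU p' q' n h ≫ proj K p q n = 0 := by
  simp [proj, hne]

theorem ι_d (p q n p₁ q₁ n₁ : ℤ) (h : p + q = n) (hp : p + 1 = p₁) (hq : q + 1 = q₁) (hn : n + 1 = n₁) :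
    K.ιTotal cU p q n h ≫ (K.total cU).d n n₁ =
      (K.d p p₁).f q ≫ K.ιTotal cU p₁ q n₁ (show p₁ + q = n₁ by lia) +
      ComplexShape.ε₂ cU cU cU (p, q) • ((K.X p).d q q₁ ≫ K.ιTotal cU p q₁ n₁ (show p + q₁ = n₁ by lia)) := by
  simp only [HomologicalComplex₂.total_d, Preadditive.comp_add, HomologicalComplex₂.ι_D₁, HomologicalComplex₂.ι_D₂]
  rw [K.d₁_eq cU hp q n₁ (show p₁ + q = n₁ by lia), K.d₂_eq cU p hq n₁ (show p + q₁ = n₁ by lia), ε₁_def, one_smul]

theorem d_proj (p q n p₀ q₀ n₁ : ℤ) (hp : p₀ + 1 = p) (hq : q₀ + 1 = q) (hn : n + 1 = n₁) (h : p + q = n₁) :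
    (K.total cU).d n n₁ ≫ proj K p q n₁ = proj K p₀ q n ≫ (K.d p₀ p).f q +
      ComplexShape.ε₂ cU cU cU (p, q₀) • (proj K p q₀ n ≫ (K.X p).d q₀ q) := by
  ext p' q' hi
  change p' + q' = n at hi
  rw [← Category.assoc, ι_d K p' q' n (p' + 1) (q' + 1) n₁ hi rfl rfl hn, Preadditive.add_comp,
    Category.assoc, Linear.units_smul_comp, Category.assoc, Preadditive.comp_add, Linear.comp_units_smul,
    ← Category.assoc (K.ιTotal cU p' q' n hi), ← Category.assoc (K.ιTotal cU p' q' n hi)]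
  rcases eq_or_ne q' q with h₁ | h₁
  · subst h₁
    obtain rfl : p' = p₀ := by lia
    obtain rfl : p = p' + 1 := by lia
    rw [ι_proj, ι_proj, ι_proj_ne K p' (q' + 1) _ _ _ _ (by lia), ι_proj_ne K p' q' (p' + 1) q₀ n hi (by lia)]
    simp
  · rcases eq_or_ne q' q₀ with h₂ | h₂
    · subst h₂
      obtain rfl : p' = p := by lia
      obtain rfl : q = q' + 1 := by lia
      rw [ι_proj, ι_proj, ι_proj_ne K (p' + 1) q' _ _ _ _ h₁, ι_proj_ne K p' q' _ _ _ hi h₁]
      simp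
    · rw [ι_proj_ne K _ _ _ _ _ _ h₁, ι_proj_ne K p' q' _ _ _ hi h₁, ι_proj_ne K _ _ _ _ _ _ (by lia),
        ι_proj_ne K p' q' _ _ _ hi h₂]
      simp

variable {K}
variable {L : HomologicalComplex₂ A cU cU} [L.HasTotal cU]

theorem map_proj (φ : K ⟶ L) (p q n : ℤ) (h : p + q = n) :
    (HomologicalComplex₂.total.map φ cU).f n ≫ proj L p q n = proj K p q n ≫ (φ.f p).f q := by
  ext p' q' hi
  change p' + q' = n at hi
  rw [HomologicalComplex₂.ιTotal_map_assoc]
  rcases eq_or_ne q' q with h₁ | h₁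
  · subst h₁
    obtain rfl : p' = p := by lia
    rw [ι_proj, ← Category.assoc, ι_proj]
    simp
  · rw [ι_proj_ne L _ _ _ _ _ _ h₁, ← Category.assoc, ι_proj_ne K _ _ _ _ _ _ h₁]
    simp

theorem decomp (a b : ℤ) (hK : ∀ p q : ℤ, p < a ∨ q < b → IsZero ((K.X p).X q)) (n : ℤ) :
    ∑ q ∈ Finset.Icc b (n - a), proj K (n - q) q n ≫ K.ιTotal cU (n - q) q n (sub_add_cancel n q) = 𝟙 _ := by
  ext p' q' hi
  change p' + q' = n at hi
  rw [Category.comp_id, Preadditive.comp_sum]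
  by_cases hq : q' ∈ Finset.Icc b (n - a)
  · rw [Finset.sum_eq_single q' (fun r _ hr => by rw [← Category.assoc, ι_proj_ne K _ _ _ _ _ _ hr.symm, zero_comp])
      (fun h => absurd hq h)]
    obtain rfl : p' = n - q' := by lia
    rw [← Category.assoc, ι_proj, Category.id_comp]
  · exact (hK p' q' (by simp only [Finset.mem_Icc, not_and_or] at hq; lia)).eq_of_src _ _

theorem ext_proj (a b : ℤ) (hK : ∀ p q : ℤ, p < a ∨ q < b → IsZero ((K.X p).X q)) {n : ℤ} {T : A}
    (x : T ⟶ (K.total cU).X n) (h : ∀ p q, p + q = n → x ≫ proj K p q n = 0) : x = 0 := by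
  rw [← Category.comp_id x, ← decomp a b hK n, Preadditive.comp_sum]
  exact Finset.sum_eq_zero fun q _ => by rw [← Category.assoc, h _ _ (sub_add_cancel n q), zero_comp]

/-- Supported in vertical degrees `≥ k`. -/
def Supp (k : ℤ) {n : ℤ} {T : A} (x : T ⟶ (K.total cU).X n) : Prop :=
  ∀ p q, p + q = n → q < k → x ≫ proj K p q n = 0

variable {φ : K ⟶ L}

theorem step [QuasiIso φ] {n₀ n n₁ k : ℤ} (h₀ : n₀ + 1 = n) (h₁ : n + 1 = n₁) {T : A}
    (x : T ⟶ (K.total cU).X n₁) (z : T ⟶ (L.total cU).X n)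
    (hx : x ≫ (K.total cU).d n₁ (n₁ + 1) = 0)
    (hz : x ≫ (HomologicalComplex₂.total.map φ cU).f n₁ + z ≫ (L.total cU).d n n₁ = 0)
    (sx : Supp k x) (sz : Supp k z) :
    ∃ (T' : A) (π : T' ⟶ T) (_ : Epi π) (x' : T' ⟶ (K.total cU).X n) (z' : T' ⟶ (L.total cU).X n₀),
      Supp (k + 1) (π ≫ x + x' ≫ (K.total cU).d n n₁) ∧
      Supp (k + 1) (π ≫ z - x' ≫ (HomologicalComplex₂.total.map φ cU).f n - z' ≫ (L.total cU).d n₀ n) := by
  let ψ := ((HomologicalComplex.eval A cU k).mapHomologicalComplex cU).map φ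
  obtain ⟨p, hp⟩ : ∃ p, p + k = n := ⟨n - k, by lia⟩
  have hψ : ∀ i, ψ.f i = (φ.f i).f k := fun _ => rfl
  let xk := x ≫ proj K (p + 1) k n₁
  let zk := z ≫ proj L p k n
  have hd1 : xk ≫ (K.d (p + 1) (p + 1 + 1)).f k = 0 := by
    have := congrArg (fun t => t ≫ proj K (p + 1 + 1) k (n₁ + 1)) hx
    simp only [Category.assoc, zero_comp, d_proj K (p + 1 + 1) k n₁ (p + 1) (k - 1) (n₁ + 1) rfl (by lia) rfl (by lia),
      Preadditive.comp_add, Linear.comp_units_smul] at this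
    rwa [← Category.assoc x (proj K (p + 1 + 1) (k - 1) n₁), sx (p + 1 + 1) (k - 1) (by lia) (by lia), zero_comp,
      smul_zero, add_zero, ← Category.assoc] at this
  have hd2 : xk ≫ (φ.f (p + 1)).f k + zk ≫ (L.d p (p + 1)).f k = 0 := by
    have := congrArg (fun t => t ≫ proj L (p + 1) k n₁) hz
    simp only [Preadditive.add_comp, Category.assoc, zero_comp, map_proj φ (p + 1) k n₁ (by lia),
      d_proj L (p + 1) k n p (k - 1) n₁ rfl (by lia) h₁ (by lia), Preadditive.comp_add, Linear.comp_units_smul] at this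
    rwa [← Category.assoc z (proj L (p + 1) (k - 1) n), sz (p + 1) (k - 1) (by lia) (by lia), zero_comp, smul_zero,
      add_zero, ← Category.assoc, ← Category.assoc] at this
  haveI hmono : Mono (HomologicalComplex.homologyMap ψ (p + 1)) := inferInstance
  rw [HomologicalComplex.mono_homologyMap_iff_up_to_refinements ψ p (p + 1) (p + 1 + 1) (by simp) (by simp)] at hmono
  obtain ⟨T₁, π₁, _, x₀', hx₀'⟩ := hmono xk hd1 (-zk) (by
    exact (eq_neg_of_add_eq_zero_left hd2).trans (Preadditive.neg_comp _ _).symm)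
  obtain ⟨x₀, hx₀⟩ : ∃ t : T₁ ⟶ (K.X p).X k, π₁ ≫ xk = t ≫ (K.d p (p + 1)).f k := ⟨x₀', hx₀'⟩
  haveI hepi : Epi (HomologicalComplex.homologyMap ψ p) := inferInstance
  rw [HomologicalComplex.epi_homologyMap_iff_up_to_refinements ψ (p - 1) p (p + 1) (by simp) (by simp)] at hepi
  obtain ⟨T₂, π₂, _, x₁', hx₁', z₁', hz₁'⟩ := hepi (π₁ ≫ zk + x₀ ≫ (φ.f p).f k) (by
    change _ ≫ (L.d p (p + 1)).f k = 0
    have hc : (φ.f p).f k ≫ (L.d p (p + 1)).f k = (K.d p (p + 1)).f k ≫ (φ.f (p + 1)).f k := ψ.comm p (p + 1)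
    rw [Preadditive.add_comp, Category.assoc π₁, Category.assoc x₀, hc, ← Category.assoc x₀, ← hx₀, Category.assoc π₁,
      ← Preadditive.comp_add, add_comm (zk ≫ _) (xk ≫ _), hd2, comp_zero])
  obtain ⟨x₁, hx₁, z₁, hz₁⟩ : ∃ (s : T₂ ⟶ (K.X p).X k) (_ : s ≫ (K.d p (p + 1)).f k = 0)
      (t : T₂ ⟶ (L.X (p - 1)).X k),
      π₂ ≫ (π₁ ≫ zk + x₀ ≫ (φ.f p).f k) = s ≫ (φ.f p).f k + t ≫ (L.d (p - 1) p).f k :=
    ⟨x₁', hx₁', z₁', hz₁'⟩
  let xp := x₁ - π₂ ≫ x₀
  refine ⟨T₂, π₂ ≫ π₁, inferInstance, xp ≫ K.ιTotal cU p k n hp,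
    z₁ ≫ L.ιTotal cU (p - 1) k n₀ (show p - 1 + k = n₀ by lia), fun p' q hpq hq => ?_, fun p' q hpq hq => ?_⟩
  · rw [Preadditive.add_comp, Category.assoc, Category.assoc xp,
      ι_d K p k n (p + 1) (k + 1) n₁ hp rfl rfl h₁]
    simp only [Preadditive.comp_add, Preadditive.add_comp, Linear.comp_units_smul, Linear.units_smul_comp, Category.assoc]
    rw [ι_proj_ne K _ (k + 1) p' q n₁ _ (by lia), comp_zero, comp_zero, smul_zero, add_zero]
    rcases eq_or_ne q k with h | h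
    · subst h
      obtain rfl : p' = p + 1 := by lia
      rw [ι_proj, Category.comp_id, hx₀]
      simp [xp, hx₁, Preadditive.sub_comp]
    · rw [sx p' q hpq (by lia), ι_proj_ne K _ k p' q n₁ _ h.symm]
      simp
  · rw [Preadditive.sub_comp, Preadditive.sub_comp, Category.assoc, Category.assoc xp, Category.assoc z₁,
      HomologicalComplex₂.ιTotal_map, ι_d L (p - 1) k n₀ p (k + 1) n (by lia) (by lia) rfl h₀]
    simp only [Preadditive.comp_add, Preadditive.add_comp, Linear.comp_units_smul, Linear.units_smul_comp, Category.assoc]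
    rw [ι_proj_ne L _ (k + 1) p' q n _ (by lia), comp_zero, comp_zero, smul_zero, add_zero]
    rcases eq_or_ne q k with h | h
    · subst h
      obtain rfl : p' = p := by lia
      rw [ι_proj, Category.comp_id, Category.comp_id]
      have e : π₂ ≫ π₁ ≫ zk = x₁ ≫ (φ.f p').f q + z₁ ≫ (L.d (p' - 1) p').f q - π₂ ≫ x₀ ≫ (φ.f p').f q := by
        rw [← hz₁, Preadditive.comp_add, add_sub_cancel_right]
      rw [e]
      simp only [xp, Preadditive.sub_comp, Category.assoc]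
      abel
    · rw [sz p' q hpq (by lia), ι_proj_ne L _ k p' q n _ h.symm]
      simp

theorem exists_boundary (a b : ℤ) (hK : ∀ p q : ℤ, p < a ∨ q < b → IsZero ((K.X p).X q))
    (hL : ∀ p q : ℤ, p < a ∨ q < b → IsZero ((L.X p).X q)) [QuasiIso φ] {n₀ n n₁ : ℤ}
    (h₀ : n₀ + 1 = n) (h₁ : n + 1 = n₁) :
    ∀ (m : ℕ) (k : ℤ), n₁ - a < k + m → ∀ {T : A} (x : T ⟶ (K.total cU).X n₁) (z : T ⟶ (L.total cU).X n),
      x ≫ (K.total cU).d n₁ (n₁ + 1) = 0 →
      x ≫ (HomologicalComplex₂.total.map φ cU).f n₁ + z ≫ (L.total cU).d n n₁ = 0 → Supp k x → Supp k z →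
      ∃ (T' : A) (π : T' ⟶ T) (_ : Epi π) (x' : T' ⟶ (K.total cU).X n) (z' : T' ⟶ (L.total cU).X n₀),
        π ≫ x = -(x' ≫ (K.total cU).d n n₁) ∧
        π ≫ z = x' ≫ (HomologicalComplex₂.total.map φ cU).f n + z' ≫ (L.total cU).d n₀ n
  | 0, k, hk, T, x, z, hx, hz, sx, sz => by
    have ex : x = 0 := ext_proj a b hK x fun p q hpq => by
      by_cases hq : q < k
      · exact sx p q hpq hq
      · exact (hK p q (Or.inl (by lia))).eq_of_tgt _ _
    have ez : z = 0 := ext_proj a b hL z fun p q hpq => by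
      by_cases hq : q < k
      · exact sz p q hpq hq
      · exact (hL p q (Or.inl (by lia))).eq_of_tgt _ _
    exact ⟨T, 𝟙 T, inferInstance, 0, 0, by simp [ex], by simp [ez]⟩
  | m + 1, k, hk, T, x, z, hx, hz, sx, sz => by
    obtain ⟨T₁, π₁, _, x', z', sx', sz'⟩ := step h₀ h₁ x z hx hz sx sz
    obtain ⟨T₂, π₂, _, x'', z'', ex, ez⟩ := exists_boundary a b hK hL h₀ h₁ m (k + 1) (by lia)
      (π₁ ≫ x + x' ≫ (K.total cU).d n n₁)
      (π₁ ≫ z - x' ≫ (HomologicalComplex₂.total.map φ cU).f n - z' ≫ (L.total cU).d n₀ n)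
      (by simp [hx])
      (by
        simp only [Preadditive.add_comp, Preadditive.sub_comp, Category.assoc, HomologicalComplex.Hom.comm,
          HomologicalComplex.d_comp_d, comp_zero, sub_zero]
        rw [show π₁ ≫ x ≫ (HomologicalComplex₂.total.map φ cU).f n₁ = -(π₁ ≫ z ≫ (L.total cU).d n n₁) by
          rw [eq_neg_iff_add_eq_zero, ← Preadditive.comp_add, hz, comp_zero]]
        abel) sx' sz'
    refine ⟨T₂, π₂ ≫ π₁, inferInstance, π₂ ≫ x' + x'', π₂ ≫ z' + z'', ?_, ?_⟩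
    · rw [Preadditive.comp_add] at ex
      rw [Category.assoc, eq_sub_of_add_eq ex, Preadditive.add_comp, Category.assoc]
      abel
    · rw [Preadditive.comp_sub, Preadditive.comp_sub] at ez
      rw [Category.assoc, eq_add_of_sub_eq (eq_add_of_sub_eq ez), Preadditive.add_comp, Preadditive.add_comp,
        Category.assoc, Category.assoc]
      abel

theorem quasiIso_map (a b : ℤ) (hK : ∀ p q : ℤ, p < a ∨ q < b → IsZero ((K.X p).X q))
    (hL : ∀ p q : ℤ, p < a ∨ q < b → IsZero ((L.X p).X q)) [QuasiIso φ] :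
    QuasiIso (HomologicalComplex₂.total.map φ cU) where
  quasiIsoAt i := by
    rw [quasiIsoAt_iff_isIso_homologyMap]
    have supp : ∀ {M : HomologicalComplex₂ A cU cU} [M.HasTotal cU],
        (∀ p q : ℤ, p < a ∨ q < b → IsZero ((M.X p).X q)) → ∀ {n : ℤ} {T : A} (x : T ⟶ (M.total cU).X n),
        Supp b x := by
      intro M _ hM n T x p q _ hq
      exact (hM p q (Or.inr hq)).eq_of_tgt _ _
    haveI : Mono (HomologicalComplex.homologyMap (HomologicalComplex₂.total.map φ cU) i) := by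
      rw [HomologicalComplex.mono_homologyMap_iff_up_to_refinements _ (i - 1) i (i + 1) (by simp) (by simp)]
      intro T x hx y hy
      obtain ⟨T', π, hπ, x', z', e, -⟩ := exists_boundary a b hK hL (φ := φ) (n₀ := i - 1 - 1) (n := i - 1) (n₁ := i)
        (by lia) (by lia) (i - a - b + 1).toNat b (by lia) x (-y) hx
        (by rw [hy, Preadditive.neg_comp, add_neg_cancel]) (supp hK x) (supp hL _)
      exact ⟨T', π, hπ, -x', by rw [e, Preadditive.neg_comp]⟩
    haveI : Epi (HomologicalComplex.homologyMap (HomologicalComplex₂.total.map φ cU) i) := by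
      rw [HomologicalComplex.epi_homologyMap_iff_up_to_refinements _ (i - 1) i (i + 1) (by simp) (by simp)]
      intro T y hy
      obtain ⟨T', π, hπ, x', z', e, e'⟩ := exists_boundary a b hK hL (φ := φ) (n₀ := i - 1) (n := i) (n₁ := i + 1)
        (by lia) rfl (i + 1 - a - b + 1).toNat b (by lia) (0 : T ⟶ _) y zero_comp
        (by rw [zero_comp, zero_add, hy]) (supp hK _) (supp hL _)
      exact ⟨T', π, hπ, x', neg_eq_zero.1 (by rw [← e, comp_zero]), z', e'⟩
    exact isIso_of_mono_of_epi _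

end Groth.Agent.H6HomAlg.TotalQis
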